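import Mathlib

set_option autoImplicit false

/-!
# Project S1906: definitions

`G` finite without subgroups of index 2, `P` a Sylow 2-subgroup embedding into `GL₃(F)`, `|F|` odd,
and containing `E₈`: then `P` is abelian.  Here: the abstract 2-group context extracted from the
embedding (`Ctx`), and the vocabulary for an automorphism of an abelian group (`dl`, `Om1`, `ACtx`).
-/

namespace Cfsg.Agent.Lib.Helper5.S1906

section Grp

variable {G : Type*} [Group G]

/-- `z` commutes with every element of `X` -/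
def Cen (X : Subgroup G) (z : G) : Prop := ∀ x ∈ X, x * z = z * x

/-- The abstract context: `X` a (non-abelian) 2-group, `X0` an abelian subgroup of index 2,
`c`, `z` the two distinguished central involutions (`c` in the commutator subgroup). -/
structure Ctx (X X0 : Subgroup G) (c z : G) : Prop where
  le : X0 ≤ X
  idx : X0.relIndex X = 2
  ab : ∀ a ∈ X0, ∀ b ∈ X0, a * b = b * a
  cX : c ∈ X
  zX : z ∈ X
  cC : Cen X c
  zC : Cen X z
  c2 : c * c = 1
  z2 : z * z = 1
  c1 : c ≠ 1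
  z1 : z ≠ 1
  cz : c ≠ z
  cD : c ∈ ⁅X, X⁆
  invD : ∀ w ∈ ⁅X, X⁆, w * w = 1 → w = 1 ∨ w = c
  invZ : ∀ ζ ∈ X, Cen X ζ → ζ * ζ = 1 → ζ = 1 ∨ ζ = c ∨ ζ = z ∨ ζ = c * z
  rk : ∀ E : Subgroup G, E ≤ X → (∀ a ∈ E, a * a = 1) → Nat.card E ≤ 8
  hasE : ∃ E : Subgroup G, E ≤ X ∧ (∀ a ∈ E, a * a = 1) ∧ Nat.card E = 8

end Grp

section Ab

variable {A : Type*} [CommGroup A]

/-- `a ↦ a⁻¹ * α a`, a homomorphism since `A` is commutative; its range is `[A, α]`, its kernel
the fixed points of `α`. -/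
def dl (α : MulAut A) : A →* A where
  toFun a := a⁻¹ * α a
  map_one' := by simp
  map_mul' a b := by
    rw [map_mul, mul_inv_rev, mul_comm b⁻¹ a⁻¹]
    exact mul_mul_mul_comm a⁻¹ b⁻¹ (α a) (α b)

theorem dl_apply (α : MulAut A) (a : A) : dl α a = a⁻¹ * α a := rfl

/-- `Ω₁(A)`: the elements with `a ^ 2 = 1` -/
def Om1 (A : Type*) [CommGroup A] : Subgroup A := (powMonoidHom 2 : A →* A).ker

theorem mem_Om1 (a : A) : a ∈ Om1 A ↔ a * a = 1 := by
  unfold Om1
  rw [MonoidHom.mem_ker, powMonoidHom_apply, pow_two]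

/-- The abstract context for an involutory automorphism `σ` of an abelian 2-group `A`
(`A = X0`, `σ` = conjugation by an element of `X ∖ X0`). -/
structure ACtx (σ : MulAut A) (c z : A) : Prop where
  s2 : σ * σ = 1
  cD : c ∈ (dl σ).range
  c2 : c * c = 1
  z2 : z * z = 1
  c1 : c ≠ 1
  z1 : z ≠ 1
  cz : c ≠ z
  zf : σ z = z
  invD : ∀ w ∈ (dl σ).range, w * w = 1 → w = 1 ∨ w = c
  invZ : ∀ a : A, σ a = a → a * a = 1 → a = 1 ∨ a = c ∨ a = z ∨ a = c * z

/-- `C_A(O)`: the elements fixed by every automorphism in `O` -/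
def FixO (O : Subgroup (MulAut A)) : Subgroup A where
  carrier := {a | ∀ β ∈ O, β a = a}
  one_mem' := fun β _ => map_one β
  mul_mem' := fun {a b} ha hb β hβ => by rw [map_mul, ha β hβ, hb β hβ]
  inv_mem' := fun {a} ha β hβ => by rw [map_inv, ha β hβ]

theorem mem_FixO (O : Subgroup (MulAut A)) (a : A) : a ∈ FixO O ↔ ∀ β ∈ O, β a = a := Iff.rfl

/-- `[A, O]`: the subgroup generated by all `a⁻¹ * β a`, `β ∈ O` -/
def CommO (O : Subgroup (MulAut A)) : Subgroup A :=
  Subgroup.closure {x | ∃ β ∈ O, ∃ a : A, x = a⁻¹ * β a}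

theorem mem_CommO (O : Subgroup (MulAut A)) (β : MulAut A) (hβ : β ∈ O) (a : A) :
    a⁻¹ * β a ∈ CommO O := Subgroup.subset_closure ⟨β, hβ, a, rfl⟩

end Ab

section Lin

/-- The linear context: a non-abelian 2-group `H` embedded in `GL₂(F) × Fˣ`, `2 ≠ 0` in `F`, with a
central involution `c` of the commutator subgroup mapping to `(-1, 1)`. -/
structure LCtx {H : Type*} [Group H] {F : Type*} [Field F] (φ : H →* GL (Fin 2) F × Fˣ) (c : H) :
    Prop where
  inj : Function.Injective φ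
  two : (2 : F) ≠ 0
  pg : IsPGroup 2 H
  na : ∃ a b : H, a * b ≠ b * a
  cD : c ∈ commutator H
  hc : φ c = (-1, 1)

end Lin

end Cfsg.Agent.Lib.Helper5.S1906
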